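import Cfsg.Agent.Lib.MaxSub.SpExtra.Step
import Cfsg.Agent.Lib.MaxSub.SpEightSymp.Ten
import Cfsg.Agent.Lib.Aschbacher.Forms

/-!
Normalisers of extraspecial two-groups of minus type are maximal in symplectic groups of degree at least eight.
-/

set_option autoImplicit false
set_option linter.unusedSectionVars false
set_option linter.unusedSimpArgs false
set_option linter.style.haveILetI false

namespace CfsgLib.MaxSub.SpExtra

open scoped MatrixGroups commutatorElement
open Cfsg.Geo Matrix CfsgLib.MaxSub.SymReal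
open CfsgLib.Aschbacher
open CfsgLib.MaxSub.SpEightSymp (Hm bigU bigU_neg_one bigU_mem Iso)

variable {ι : Type} [Fintype ι] [DecidableEq ι] {F : Type*} [Field F] [Fintype F]

/-- A group of symplectic type of isometries of an invertible form, absolutely irreducible, is a real frame. -/
theorem rFrame_of_sympType {R : Subgroup (GL ι F)} {B : Matrix ι ι F} (h2 : (2 : F) ≠ 0) (hB : IsUnit B)
    (hn : 2 ≤ Fintype.card ι) (hs : IsSymplecticTypeGroup 2 R) (hirr : ActsAbsolutelyIrreducibly (matrixSet R))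
    (hle : R ≤ isomM B) : RFrame R := by
  classical
  haveI : Nonempty ι := Fintype.card_pos_iff.1 (by omega)
  haveI : Finite (GL ι F) := Finite.of_injective (fun g => (g : Matrix ι ι F)) fun _ _ => Units.ext
  have halg : CfsgLib.Aschbacher.alg R = ⊤ := CfsgLib.Aschbacher.alg_top_of_absIrred hirr
  have hexp : ∀ y : R, y ^ 4 = 1 := fun y => by
    have := Monoid.pow_exponent_eq_one y
    rw [hs.exponent_eq] at this
    simpa using this
  have hc := CfsgLib.ClassK.symplectic_commutator_le_center (P := R) ⟨hs.pGroup, hs.cyclic_of_characteristic⟩ hexp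
  have hscal : ∀ y ∈ R, ∀ a : F, (y : Matrix ι ι F) = a • (1 : Matrix ι ι F) → y = 1 ∨ y = -1 := by
    intro y hy a ha
    have hI := mem_isomM.1 (hle hy)
    rw [ha, Matrix.transpose_smul, Matrix.transpose_one, Matrix.smul_mul, Matrix.mul_smul, Matrix.one_mul,
      Matrix.mul_one, smul_smul] at hI
    have h1 : (a * a - 1) • B = 0 := by rw [sub_smul, one_smul, hI, sub_self]
    rcases smul_eq_zero.1 h1 with h | h
    · rcases mul_self_eq_one_iff.1 (sub_eq_zero.1 h) with rfl | rfl
      · exact Or.inl (Units.ext (by rw [ha, one_smul, Units.val_one]))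
      · exact Or.inr (Units.ext (by rw [ha, neg_one_smul, Units.val_neg, Units.val_one]))
    · exact absurd h hB.ne_zero
  have hcen : ∀ z ∈ R, (∀ y ∈ R, Commute z y) → z = 1 ∨ z = -1 := by
    intro z hz hzc
    obtain ⟨a, ha⟩ := hirr.2 (z : Matrix ι ι F) (by
      rintro _ ⟨y, hy, rfl⟩; exact congrArg Units.val (hzc y hy).eq)
    exact hscal z hz a ha
  have hz : ∀ z : R, z ∈ Subgroup.center R → (z : GL ι F) = 1 ∨ (z : GL ι F) = -1 :=
    fun z h => hcen z z.2 fun y hy => (congrArg Subtype.val (Subgroup.mem_center_iff.1 h ⟨y, hy⟩)).symm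
  have hcom : ∀ x ∈ R, ∀ y ∈ R, x * y = y * x ∨ x * y = -(y * x) := by
    intro x hx y hy
    have hmem := hc (Subgroup.commutator_mem_commutator (Subgroup.mem_top (⟨x, hx⟩ : R))
      (Subgroup.mem_top (⟨y, hy⟩ : R)))
    have hval : ((⁅(⟨x, hx⟩ : R), ⟨y, hy⟩⁆ : R) : GL ι F) = x * y * x⁻¹ * y⁻¹ := by
      rw [commutatorElement_def]; rfl
    have e : x * y = x * y * x⁻¹ * y⁻¹ * (y * x) := by group
    rcases hz _ hmem with h | h <;> rw [hval] at h
    · left; rw [e, h, one_mul]
    · right; rw [e, h, neg_one_mul]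
  have hneg : (-1 : GL ι F) ∈ R := by
    by_contra hn'
    refine CfsgLib.Aschbacher.not_commutative_alg_top hn halg fun x hx y hy =>
      (hcom x hx y hy).resolve_right fun h => hn' ?_
    have e : (-1 : GL ι F) = x * y * (y * x)⁻¹ := by rw [h, neg_mul, mul_inv_cancel]
    rw [e]
    exact mul_mem (mul_mem hx hy) (inv_mem (mul_mem hy hx))
  have sq' : ∀ x ∈ R, x * x = 1 ∨ x * x = -1 := by
    intro x hx
    refine hcen _ (mul_mem hx hx) fun w hw => ?_
    rcases hcom x hx w hw with h | h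
    · exact (show Commute x w from h).mul_left h
    · show x * x * w = w * (x * x)
      rw [mul_assoc, h, mul_neg, ← mul_assoc, h, neg_mul, neg_neg, mul_assoc]
  have hcs : ∀ x ∈ R, ∀ y ∈ R, x * y * x⁻¹ * y⁻¹ ∈ scalars ι F := by
    intro x hx y hy
    rcases hcom x hx y hy with e | e
    · rw [e, show y * x * x⁻¹ * y⁻¹ = 1 by group]; exact one_mem _
    · rw [e, neg_mul, neg_mul, show y * x * x⁻¹ * y⁻¹ = 1 by group, mem_scalars_iff]
      exact ⟨-1, by simp⟩
  refine ⟨h2, ?_, hneg, hscal, sq', fun x hx y hy => hcom x hx y hy, halg⟩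
  haveI : Fintype (R ⧸ Subgroup.center R) := Fintype.ofFinite _
  let Bs : Module.Basis (R ⧸ Subgroup.center R) F (Matrix ι ι F) :=
    Module.Basis.mk (CfsgLib.Aschbacher.linearIndependent_reps hcs) (CfsgLib.Aschbacher.span_reps halg)
  have hquot : Nat.card (R ⧸ Subgroup.center R) = Fintype.card ι * Fintype.card ι := by
    rw [Nat.card_eq_fintype_card, ← Module.finrank_eq_card_basis Bs, Module.finrank_matrix,
      Module.finrank_self, mul_one]
  obtain ⟨N, hN⟩ := IsPGroup.iff_card.1 hs.pGroup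
  have hdvd : Fintype.card ι ∣ 2 ^ N := by
    rw [← hN, Subgroup.card_eq_card_quotient_mul_card_subgroup (Subgroup.center R), hquot, mul_assoc]
    exact dvd_mul_right _ _
  obtain ⟨j, -, hj⟩ := (Nat.dvd_prime_pow Nat.prime_two).1 hdvd
  rw [hj, Nat.cast_pow]
  exact pow_ne_zero _ (by exact_mod_cast h2)

omit [Fintype ι] [DecidableEq ι] in
theorem noBig_comap {Γ Γ' : Type*} [Group Γ] [Group Γ'] (f : Γ ≃* Γ') {R : Subgroup Γ'} {k : ℕ}
    (h : NoBig k R) : NoBig k (R.comap f.toMonoidHom) := by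
  intro A hA hc hs
  rw [← Subgroup.card_map_of_injective (K := A) (f := f.toMonoidHom) f.injective]
  refine h _ (Subgroup.map_le_iff_le_comap.2 hA) ?_ ?_
  · rintro _ ⟨a, ha, rfl⟩ _ ⟨b, hb, rfl⟩
    rw [← map_mul, hc a ha b hb, map_mul]
  · rintro _ ⟨a, ha, rfl⟩
    rw [← map_mul, hs a ha, map_one]

/-- The base case of degree eight. -/
theorem maximal_eight (hp : (Fintype.card F).Prime) {R : Subgroup (GL (Fin 4 ⊕ Fin 4) F)} (hR : RFrame R)
    (hle : R ≤ Cfsg.spGL 4 F) (hnb : NoBig 3 R) :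
    IsMaximalIn (Cfsg.spGL 4 F) (subgroupNormalizer R ⊓ Cfsg.spGL 4 F) := by
  classical
  haveI : Finite (GL (Fin 4 ⊕ Fin 4) F) :=
    Finite.of_injective (fun g => (g : Matrix (Fin 4 ⊕ Fin 4) (Fin 4 ⊕ Fin 4) F)) fun _ _ => Units.ext
  let f : R.comap (bigU 4 F).toMonoidHom ≃* R :=
    ((bigU 4 F).subgroupMap (R.comap (bigU 4 F).toMonoidHom)).trans
      (MulEquiv.subgroupCongr (Subgroup.map_comap_eq_self_of_surjective (bigU 4 F).surjective R))
  have hS : CfsgLib.MaxSub.SpEightSymp.Sym (R.comap (bigU 4 F).toMonoidHom) := by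
    refine ⟨hR.two, fun g hg => bigU_mem.1 (hle hg), ?_, ?_, fun x hx => ?_, fun x hx y hy => ?_,
      fun x hx hxc => ?_, minus_of_noBig (noBig_comap _ hnb)⟩
    · rw [Nat.card_congr f.toEquiv, hR.card_eq]; simp
    · show bigU 4 F (-1) ∈ R
      rw [bigU_neg_one]; exact hR.neg_one
    · rcases hR.sq _ hx with h | h
      · exact Or.inl ((bigU 4 F).injective (by rw [map_mul, map_one]; exact h))
      · exact Or.inr ((bigU 4 F).injective (by rw [map_mul, bigU_neg_one]; exact h))
    · rcases hR.comm _ hx _ hy with h | h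
      · exact Or.inl ((bigU 4 F).injective (by rw [map_mul, map_mul]; exact h.eq))
      · refine Or.inr ((bigU 4 F).injective ?_)
        rw [map_mul, ← neg_one_mul (y * x), map_mul, map_mul, bigU_neg_one, neg_one_mul]
        exact h
    · rcases hR.eq_one_of_comm hx (fun y hy => by
        obtain ⟨y', rfl⟩ := (bigU 4 F).surjective y
        exact ((hxc y' hy).map (bigU 4 F).toMonoidHom).symm) with h | h
      · exact Or.inl ((bigU 4 F).injective (by rw [map_one]; exact h))
      · exact Or.inr ((bigU 4 F).injective (by rw [bigU_neg_one]; exact h))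
  obtain ⟨z₁, w₁, z₂, w₂, i, j, hf⟩ := hS.exists_frame
  obtain ⟨Q, g, hg, hconj⟩ := hf.conj hS
  let φ : (Hm 4 F)ˣ ≃* GL (Fin 4 ⊕ Fin 4) F := (MulAut.conj g).trans (bigU 4 F)
  have hφR : Q.R8.map φ.toMonoidHom = R := by
    show Q.R8.map ((bigU 4 F).toMonoidHom.comp (MulAut.conj g).toMonoidHom) = R
    rw [← Subgroup.map_map, hconj]
    exact Subgroup.map_comap_eq_self_of_surjective (bigU 4 F).surjective R
  have hφI : (Iso 4 F).map φ.toMonoidHom = Cfsg.spGL 4 F := by
    ext x
    constructor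
    · rintro ⟨y, hy, rfl⟩
      exact bigU_mem.2 (mul_mem (mul_mem hg hy) (inv_mem hg))
    · intro hx
      obtain ⟨y, rfl⟩ := φ.surjective x
      have h := bigU_mem.1 (show bigU 4 F (g * y * g⁻¹) ∈ Cfsg.spGL 4 F from hx)
      refine ⟨y, ?_, rfl⟩
      rw [show y = g⁻¹ * (g * y * g⁻¹) * g by group]
      exact mul_mem (mul_mem (inv_mem hg) h) hg
  have hφN : Q.N8.map φ.toMonoidHom = subgroupNormalizer R ⊓ Cfsg.spGL 4 F := by
    show (Subgroup.normalizer (Q.R8 : Set (Hm 4 F)ˣ) ⊓ Iso 4 F).map φ.toMonoidHom = _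
    rw [Subgroup.map_inf _ _ _ φ.injective, hφI,
      Subgroup.map_normalizer_eq_of_bijective Q.R8 (f := φ.toMonoidHom) φ.bijective, hφR]
    rfl
  rw [← hφN, ← hφI]
  exact CfsgLib.MaxSub.SpEightSymp.isMaximalIn_map φ Q.N8_lt fun M h1 h2' => Q.N8_maximal hp h1 h2'

/-- Maximality in every degree `2 ^ k` with `3 ≤ k`. -/
theorem maximal (hp : (Fintype.card F).Prime) (hex : ¬ Fintype.card F = 2) {k : ℕ} (hk : 3 ≤ k) :
    ∀ (m : ℕ) (R : Subgroup (GL (Fin m ⊕ Fin m) F)), 2 * m = 2 ^ k → RFrame R → R ≤ Cfsg.spGL m F →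
      NoBig k R → IsMaximalIn (Cfsg.spGL m F) (subgroupNormalizer R ⊓ Cfsg.spGL m F) := by
  induction k, hk using Nat.le_induction with
  | base =>
    intro m R hm hR hle hnb
    obtain rfl : m = 4 := by omega
    exact maximal_eight hp hR hle hnb
  | succ k hk ih =>
    intro m R hm hR hle hnb
    exact maximal_step hR hle hm (by omega) hnb ih hex

end CfsgLib.MaxSub.SpExtra
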