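import Cfsg.Agent.Lib.MaxSub.SymReal.Form
import Cfsg.Agent.Lib.Classical.GraphFormClass
import Cfsg.Agent.Lib.Geom.Symp

/-!
Symplectic coordinates adapted to two anticommuting involutions.
-/

set_option autoImplicit false
set_option linter.unusedSectionVars false
set_option linter.unusedSimpArgs false
set_option linter.style.haveILetI false

namespace CfsgLib.MaxSub.SpExtra

open scoped MatrixGroups
open Cfsg.Geo Matrix CfsgLib.MaxSub.DecompMax CfsgLib.MaxSub.SymReal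
open CfsgLib.MaxSub.SymEight (bd od cA coe_coordGL cA_mulVec cA_ext bd_mul bd_one pairGL coe_pairGL half)

variable {ι κ μ : Type} [Fintype ι] [DecidableEq ι] [Fintype κ] [DecidableEq κ] [Fintype μ] [DecidableEq μ]
variable {F : Type*} [Field F]

theorem spGL_eq (m : ℕ) : Cfsg.spGL m F = isomM (Matrix.J (Fin m) F) := by
  ext g
  exact mem_isomM_form.symm

theorem J_props (m : ℕ) (h2 : (2 : F) ≠ 0) :
    (Matrix.J (Fin m) F)ᵀ = -Matrix.J (Fin m) F ∧ IsUnit (Matrix.J (Fin m) F) ∧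
      CfsgLib.Classical.GraphForm.IsAlt (Matrix.J (Fin m) F) := by
  have h := Matrix.J_transpose (l := Fin m) (R := F)
  refine ⟨h, ⟨⟨Matrix.J (Fin m) F, -Matrix.J (Fin m) F, ?_, ?_⟩, rfl⟩, h, fun i => ?_⟩
  · rw [Matrix.mul_neg, Matrix.J_squared, neg_neg]
  · rw [Matrix.neg_mul, Matrix.J_squared, neg_neg]
  · rcases i with i | i <;> simp [Matrix.J]

/-- The same change of coordinates on both halves. -/
noncomputable def sumEquiv (Ψ : (κ → F) ≃ₗ[F] (μ → F)) : (κ ⊕ κ → F) ≃ₗ[F] (μ ⊕ μ → F) where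
  toFun f := Sum.elim (Ψ (f ∘ Sum.inl)) (Ψ (f ∘ Sum.inr))
  invFun f := Sum.elim (Ψ.symm (f ∘ Sum.inl)) (Ψ.symm (f ∘ Sum.inr))
  map_add' f g := by funext i; rcases i with i | i <;> simp [Pi.add_comp]
  map_smul' c f := by funext i; rcases i with i | i <;> simp [Pi.smul_comp]
  left_inv f := by funext i; rcases i with i | i <;> simp
  right_inv f := by funext i; rcases i with i | i <;> simp

theorem cA_fromBlocks (Ψ : (κ → F) ≃ₗ[F] (μ → F)) (A B C D : Matrix κ κ F) :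
    cA (sumEquiv Ψ) (Matrix.fromBlocks A B C D) = Matrix.fromBlocks (cA Ψ A) (cA Ψ B) (cA Ψ C) (cA Ψ D) :=
  cA_ext (sumEquiv Ψ) fun v => by
    rw [cA_mulVec]
    funext i
    rcases i with i | i <;>
      simp [sumEquiv, Matrix.fromBlocks_mulVec, Sum.elim_comp_inl, Sum.elim_comp_inr, map_add, cA_mulVec]

theorem form_fromBlocks (B : Matrix κ κ F) (u v : κ ⊕ κ → F) :
    form (bd B B) u v = form B (u ∘ Sum.inl) (v ∘ Sum.inl) + form B (u ∘ Sum.inr) (v ∘ Sum.inr) := by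
  simp [form, bd, Matrix.fromBlocks_mulVec, dotProduct, Fintype.sum_sum_type]

theorem coordGL_trans {R : Subgroup (GL ι F)} (Φ : (ι → F) ≃ₗ[F] (κ → F)) (Ψ : (κ → F) ≃ₗ[F] (μ → F)) :
    (R.map (coordGL Φ).toMonoidHom).map (coordGL Ψ).toMonoidHom = R.map (coordGL (Φ.trans Ψ)).toMonoidHom := by
  rw [Subgroup.map_map]
  congr 1
  refine MonoidHom.ext fun g => (Units.ext ?_).symm
  show (coordGL (Φ.trans Ψ) g : Matrix μ μ F) = (coordGL Ψ (coordGL Φ g) : Matrix μ μ F)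
  refine cA_ext (Φ.trans Ψ) fun v => ?_
  rw [coordGL_mulVec, LinearEquiv.trans_apply, LinearEquiv.trans_apply, coordGL_mulVec, coordGL_mulVec]

/-- Symplectic coordinates for a pair of anticommuting involutions of a real frame of isometries. -/
theorem exists_coordinates [Finite F] {m : ℕ} {R : Subgroup (GL (Fin m ⊕ Fin m) F)} (hR : RFrame R)
    (hle : R ≤ Cfsg.spGL m F) {k : ℕ} (hm : 2 * m = 2 ^ k) (hk : 2 ≤ k) {r x : GL (Fin m ⊕ Fin m) F}
    (hr : Sing R r) (hx : Sing R x) (hrx : Anti r x) :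
    ∃ (m' : ℕ) (Φ : (Fin m ⊕ Fin m → F) ≃ₗ[F] ((Fin m' ⊕ Fin m') ⊕ (Fin m' ⊕ Fin m') → F)),
      2 * m' = 2 ^ (k - 1) ∧ m = 2 * m' ∧
      cA Φ (r : Matrix (Fin m ⊕ Fin m) (Fin m ⊕ Fin m) F) = bd 1 (-1) ∧
      cA Φ (x : Matrix (Fin m ⊕ Fin m) (Fin m ⊕ Fin m) F) = od 1 1 ∧
      BlockR (R.map (coordGL Φ).toMonoidHom) ∧
      (Cfsg.spGL m F).map (coordGL Φ).toMonoidHom = isomM (bd (Matrix.J (Fin m') F) (Matrix.J (Fin m') F)) ∧
      (∀ u v, form (bd (Matrix.J (Fin m') F) (Matrix.J (Fin m') F)) (Φ u) (Φ v) = form (Matrix.J (Fin m) F) u v) := by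
  classical
  have h2 := hR.two
  obtain ⟨d, Φ₁, hd, hr1, hx1, hB⟩ := hR.exists_blockR hr.mem hx.mem hr.sq hx.sq hrx
  obtain ⟨hJ, hJu, -⟩ := J_props (F := F) m h2
  obtain ⟨B₁, hB₁, -, hB₁a, hB₁u⟩ := exists_form_map (Matrix.J (Fin m) F) Φ₁
  have hmap₁ := isomM_map Φ₁ hB₁
  obtain ⟨B', rfl⟩ : ∃ B', B₁ = bd B' B' := by
    refine block_form (z := coordGL Φ₁ r) (x := coordGL Φ₁ x) h2 ?_ ?_ hr1 hx1 <;> rw [← hmap₁, ← spGL_eq]
    · exact Subgroup.mem_map_of_mem _ (hle hr.mem)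
    · exact Subgroup.mem_map_of_mem _ (hle hx.mem)
  have hB'a : B'ᵀ = -B' := by
    have := hB₁a hJ
    rw [bd, Matrix.fromBlocks_transpose, Matrix.fromBlocks_neg, Matrix.fromBlocks_inj] at this
    exact this.1
  have hB'u : IsUnit B' := by
    have := hB₁u hJu
    rw [Matrix.isUnit_iff_isUnit_det] at this ⊢
    rw [bd, Matrix.det_fromBlocks_zero₁₂] at this
    exact isUnit_of_mul_isUnit_left this
  obtain ⟨m', hm', hdm⟩ : ∃ m', 2 * m' = 2 ^ (k - 1) ∧ d = m' + m' := by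
    obtain ⟨j, rfl⟩ : ∃ j, k = j + 2 := ⟨k - 2, by omega⟩
    refine ⟨2 ^ j, by rw [show j + 2 - 1 = j + 1 by omega, pow_succ, mul_comm], ?_⟩
    rw [Fintype.card_sum, Fintype.card_fin] at hd
    rw [pow_add] at hm
    omega
  let e : Fin d ≃ Fin m' ⊕ Fin m' := (finCongr hdm).trans finSumFinEquiv.symm
  obtain ⟨J', hJ'⟩ : ∃ J', J' = (Matrix.J (Fin m') F).submatrix e e := ⟨_, rfl⟩
  obtain ⟨hJm, hJmu, hJma⟩ := J_props (F := F) m' h2
  have hJ'alt : CfsgLib.Classical.GraphForm.IsAlt J' := by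
    refine ⟨?_, fun i => by rw [hJ', Matrix.submatrix_apply]; exact hJma.2 _⟩
    rw [hJ', Matrix.transpose_submatrix, hJm, Matrix.submatrix_neg]
    rfl
  have hJ'u : IsUnit J' := by
    rw [hJ', Matrix.isUnit_iff_isUnit_det, Matrix.det_submatrix_equiv_self, ← Matrix.isUnit_iff_isUnit_det]
    exact hJmu
  have hB'alt : CfsgLib.Classical.GraphForm.IsAlt B' := ⟨hB'a, fun i => by
    have h := congrFun (congrFun hB'a i) i
    rw [Matrix.transpose_apply, Matrix.neg_apply] at h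
    exact (mul_eq_zero.1 (show (2 : F) * B' i i = 0 by linear_combination h)).resolve_left h2⟩
  obtain ⟨P, hP⟩ := CfsgLib.Classical.GraphForm.alt_congr hB'alt hB'u hJ'alt hJ'u
  let TP : (Fin d → F) ≃ₗ[F] (Fin d → F) :=
    LinearEquiv.ofLinear (Matrix.toLin' (P : Matrix (Fin d) (Fin d) F))
      (Matrix.toLin' ((P⁻¹ : GL (Fin d) F) : Matrix (Fin d) (Fin d) F))
      (by rw [← Matrix.toLin'_mul, Units.mul_inv, Matrix.toLin'_one])
      (by rw [← Matrix.toLin'_mul, Units.inv_mul, Matrix.toLin'_one])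
  let Ψ : (Fin d → F) ≃ₗ[F] (Fin m' ⊕ Fin m' → F) := TP.trans (LinearEquiv.funCongrLeft F F e.symm)
  have hform : ∀ u v, form (Matrix.J (Fin m') F) (Ψ u) (Ψ v) = form B' u v := by
    intro u v
    have hΨ : ∀ w, Ψ w = ((P : Matrix (Fin d) (Fin d) F) *ᵥ w) ∘ e.symm := fun w => rfl
    rw [← hP, ← form_mul, hΨ, hΨ, form, form, hJ', Matrix.submatrix_mulVec_equiv]
    rw [← comp_equiv_dotProduct_comp_equiv (x := ((P : Matrix (Fin d) (Fin d) F) *ᵥ u)) (y := _) (e := e.symm)]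
    simp [Function.comp_assoc]
  have hform₂ : ∀ u v, form (bd (Matrix.J (Fin m') F) (Matrix.J (Fin m') F)) (Φ₁.trans (sumEquiv Ψ) u)
      (Φ₁.trans (sumEquiv Ψ) v) = form (Matrix.J (Fin m) F) u v := fun u v => by
    rw [← hB₁ u v, form_fromBlocks, form_fromBlocks]
    simp [sumEquiv, hform]
  have hcA : ∀ A, cA (Φ₁.trans (sumEquiv Ψ)) A = cA (sumEquiv Ψ) (cA Φ₁ A) := fun A =>
    cA_ext (Φ₁.trans (sumEquiv Ψ)) fun v => by
      rw [cA_mulVec, LinearEquiv.trans_apply, LinearEquiv.trans_apply, cA_mulVec, cA_mulVec]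
  have e1 : cA (Φ₁.trans (sumEquiv Ψ)) (r : Matrix (Fin m ⊕ Fin m) (Fin m ⊕ Fin m) F) = bd 1 (-1) := by
    rw [hcA, hr1, bd, cA_fromBlocks, map_one, map_zero, map_neg, map_one]; rfl
  have e2 : cA (Φ₁.trans (sumEquiv Ψ)) (x : Matrix (Fin m ⊕ Fin m) (Fin m ⊕ Fin m) F) = od 1 1 := by
    rw [hcA, hx1, od, cA_fromBlocks, map_one, map_zero]; rfl
  refine ⟨m', Φ₁.trans (sumEquiv Ψ), hm', ?_, e1, e2, ⟨hR.map _, ⟨_, ⟨r, hr.mem, rfl⟩, e1⟩, ⟨_, ⟨x, hx.mem, rfl⟩, e2⟩⟩,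
    by rw [spGL_eq]; exact isomM_map _ hform₂, hform₂⟩
  have hk' : 2 ^ k = 2 * 2 ^ (k - 1) := by rw [← pow_succ']; congr 1; omega
  omega

end CfsgLib.MaxSub.SpExtra
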