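import Cfsg.Agent.Lib.MaxSub.SpExtra.Coord
import Cfsg.Agent.Lib.MaxSub.SymReal.Main
import Cfsg.Agent.Lib.MaxSub.SpAll
import Cfsg.Agent.Lib.Classical.SpSimple

/-!
The inductive step: an overgroup of the normaliser of a real frame in a symplectic group is that normaliser
or the whole group, provided the same holds in half the degree.
-/

set_option autoImplicit false
set_option linter.unusedSectionVars false
set_option linter.unusedSimpArgs false
set_option linter.style.haveILetI false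

namespace CfsgLib.MaxSub.SpExtra

open scoped MatrixGroups commutatorElement
open Cfsg.Geo Matrix CfsgLib.MaxSub.DecompMax CfsgLib.MaxSub.SymReal
open CfsgLib.MaxSub.SymEight (bd od cA coe_coordGL cA_mulVec cA_ext bd_mul bd_mul_od od_mul_bd od_mul bd_one
  bd_neg bd_smul bd_inj od_inj pairGL coe_pairGL dup coe_dup dup_injective half exists_pairGL_of_comm
  mem_normalizer_of_conj conj_mem)

variable {F : Type*} [Field F]

/-- No elementary abelian subgroup of order `2 ^ (k + 1)`. -/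
def NoBig {Γ : Type*} [Group Γ] (k : ℕ) (R : Subgroup Γ) : Prop :=
  ∀ A : Subgroup Γ, A ≤ R → (∀ a ∈ A, ∀ b ∈ A, a * b = b * a) → (∀ a ∈ A, a * a = 1) →
    Nat.card A < 2 ^ (k + 1)

theorem noBig_of_minus {Γ : Type*} [Group Γ] {k : ℕ} {R : Subgroup Γ} (h : Cfsg.Geo.IsOfMinusType k R) :
    NoBig k R := by
  intro A hA hc hs
  rw [← Nat.card_congr (Subgroup.subgroupOfEquivOfLe hA).toEquiv]
  refine h (A.subgroupOf R) ⟨⟨fun a b => ?_⟩⟩ fun a ha => Subtype.ext (hs _ ha)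
  exact Subtype.ext (Subtype.ext (hc _ a.2 _ b.2))

theorem minus_of_noBig {Γ : Type*} [Group Γ] {k : ℕ} {R : Subgroup Γ} (h : NoBig k R) :
    Cfsg.Geo.IsOfMinusType k R := by
  intro A hA hs
  rw [← Subgroup.card_map_of_injective (K := A) (f := R.subtype) Subtype.val_injective]
  refine h _ (Subgroup.map_subtype_le A) ?_ ?_
  · rintro _ ⟨a, ha, rfl⟩ _ ⟨b, hb, rfl⟩
    haveI := hA
    exact congrArg (fun z : A => ((z : R) : Γ)) (mul_comm' (⟨a, ha⟩ : A) ⟨b, hb⟩)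
  · rintro _ ⟨a, ha, rfl⟩
    exact congrArg Subtype.val (hs a ha)

variable {κ : Type} [Fintype κ] [DecidableEq κ]

/-- Having no large elementary abelian subgroup passes to the half. -/
theorem noBig_half [Finite F] {R : Subgroup (GL (κ ⊕ κ) F)} (hB : BlockR R) {k : ℕ} (hk : 1 ≤ k)
    (h : NoBig k R) : NoBig (k - 1) (half R) := by
  classical
  haveI : Finite (GL κ F) := Finite.of_injective (fun g => (g : Matrix κ κ F)) fun _ _ => Units.ext
  haveI : Finite (GL (κ ⊕ κ) F) := Finite.of_injective (fun g => (g : Matrix (κ ⊕ κ) (κ ⊕ κ) F)) fun _ _ => Units.ext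
  haveI := hB.half_frame.nonempty
  obtain ⟨z, hz, hzm⟩ := hB.memZ
  intro A hA hc hs
  obtain ⟨hzz, -, -⟩ := pairGL_one_eq hB.frame.two hzm (1 : GL κ F)
  have hzc : ∀ a, Commute z (dup a) := fun a => (pairGL_one_eq hB.frame.two hzm a).2.1
  have hzi : z⁻¹ = z := inv_eq_of_mul_eq_one_left hzz
  let A' : Subgroup (GL (κ ⊕ κ) F) :=
    { carrier := {g | ∃ a ∈ A, g = dup a ∨ g = z * dup a}
      one_mem' := ⟨1, A.one_mem, Or.inl (map_one _).symm⟩
      mul_mem' := by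
        rintro g g' ⟨a, ha, rfl | rfl⟩ ⟨b, hb, rfl | rfl⟩ <;> refine ⟨a * b, A.mul_mem ha hb, ?_⟩ <;>
          rw [map_mul]
        · exact Or.inl rfl
        · exact Or.inr (by rw [← mul_assoc, ← (hzc a).eq, mul_assoc])
        · exact Or.inr (by rw [mul_assoc])
        · exact Or.inl (by rw [mul_assoc, ← mul_assoc (dup a) z, ← (hzc a).eq, mul_assoc z, ← mul_assoc z z, hzz,
            one_mul])
      inv_mem' := by
        rintro g ⟨a, ha, rfl | rfl⟩ <;> refine ⟨a⁻¹, A.inv_mem ha, ?_⟩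
        · exact Or.inl (map_inv _ _).symm
        · exact Or.inr (by rw [_root_.mul_inv_rev, hzi, ← map_inv, (hzc a⁻¹).eq]) }
  have hlt := h A' (by
      rintro g ⟨a, ha, rfl | rfl⟩
      · exact hA ha
      · exact R.mul_mem hz (hA ha))
    (by
      rintro g ⟨a, ha, rfl | rfl⟩ g' ⟨b, hb, rfl | rfl⟩
      · rw [← map_mul, hc a ha b hb, map_mul]
      · rw [← mul_assoc, ← (hzc a).eq, mul_assoc, ← map_mul, hc a ha b hb, map_mul, mul_assoc]
      · rw [mul_assoc, ← map_mul, hc a ha b hb, map_mul, ← mul_assoc, (hzc b).eq, mul_assoc]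
      · exact Commute.mul_left ((Commute.refl z).mul_right (hzc b))
          ((hzc a).symm.mul_right (show Commute (dup a) (dup b) by
            unfold Commute SemiconjBy; rw [← map_mul, hc a ha b hb, map_mul])))
    (by
      rintro g ⟨a, ha, rfl | rfl⟩
      · rw [← map_mul, hs a ha, map_one]
      · rw [mul_assoc, ← mul_assoc (dup a) z, ← (hzc a).eq, mul_assoc z, ← map_mul, hs a ha, map_one, mul_one, hzz])
  have hinj : Function.Injective (fun p : A × Bool => (if p.2 then ⟨z * dup (p.1 : GL κ F), p.1, p.1.2, Or.inr rfl⟩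
      else ⟨dup (p.1 : GL κ F), p.1, p.1.2, Or.inl rfl⟩ : A')) := by
    have hne : ∀ a b : GL κ F, z * dup a ≠ dup b := by
      intro a b e
      have e' := congrArg Units.val e
      rw [Units.val_mul, hzm, coe_dup, coe_dup, bd_mul, Matrix.one_mul, neg_mul, Matrix.one_mul] at e'
      obtain ⟨e1, e2⟩ := bd_inj e'
      exact hB.half_frame.ne_neg a (Units.ext (by rw [Units.val_neg]; exact e1.trans e2.symm))
    rintro ⟨a, s⟩ ⟨b, t⟩ e
    cases s <;> cases t <;> simp only [Bool.false_eq_true, if_true, if_false, Subtype.mk.injEq] at e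
    · exact Prod.ext (Subtype.ext (dup_injective e)) rfl
    · exact absurd e.symm (hne _ _)
    · exact absurd e (hne _ _)
    · exact Prod.ext (Subtype.ext (dup_injective (mul_left_cancel e))) rfl
  have h2 := Nat.card_le_card_of_injective _ hinj
  rw [Nat.card_prod, Nat.card_eq_fintype_card (α := Bool), Fintype.card_bool] at h2
  rw [show k + 1 = k - 1 + 1 + 1 by omega, pow_succ] at hlt
  omega

/-- The symplectic group as matrices, into the general linear group. -/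
def spToGL (m : ℕ) (F : Type*) [Field F] : Matrix.symplecticGroup (Fin m) F →* GL (Fin m ⊕ Fin m) F where
  toFun A := ⟨(A : Matrix (Fin m ⊕ Fin m) (Fin m ⊕ Fin m) F),
    ((A⁻¹ : Matrix.symplecticGroup (Fin m) F) : Matrix (Fin m ⊕ Fin m) (Fin m ⊕ Fin m) F),
    by rw [← Submonoid.coe_mul, mul_inv_cancel]; rfl, by rw [← Submonoid.coe_mul, inv_mul_cancel]; rfl⟩
  map_one' := Units.ext rfl
  map_mul' _ _ := Units.ext rfl

theorem spToGL_range (m : ℕ) : (spToGL m F).range = Cfsg.spGL m F := by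
  ext g
  constructor
  · rintro ⟨A, rfl⟩
    exact (CfsgLib.Geom.mem_symplecticGroup_iff_form _).1 A.2
  · intro hg
    exact ⟨⟨(g : Matrix _ _ F), (CfsgLib.Geom.mem_symplecticGroup_iff_form (g : Matrix (Fin m ⊕ Fin m) (Fin m ⊕ Fin m) F)).2 hg⟩,
      Units.ext rfl⟩

theorem comm_mul_central {G : Type*} [Group G] (a b : G) {x y : G} (hx : ∀ g, g * x = x * g)
    (hy : ∀ g, g * y = y * g) : ⁅a * x, b * y⁆ = ⁅a, b⁆ := by
  rw [commutatorElement_def, commutatorElement_def,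
    show a * x * (b * y) * (a * x)⁻¹ = a * (x * (b * y) * x⁻¹) * a⁻¹ by group,
    ← hx (b * y), mul_inv_cancel_right,
    show a * (b * y) * a⁻¹ = a * b * (y * a⁻¹) by group, ← hy a⁻¹]
  group

/-- A non-central normal subgroup of the symplectic group is the whole group. -/
theorem spGL_le_of_normal [Fintype F] {m : ℕ} (hm : 3 ≤ m) {K : Subgroup (GL (Fin m ⊕ Fin m) F)}
    (hK : ∀ g ∈ Cfsg.spGL m F, ∀ a ∈ K, g * a * g⁻¹ ∈ K) {y w : GL (Fin m ⊕ Fin m) F} (hy : y ∈ K)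
    (hyS : y ∈ Cfsg.spGL m F) (hw : w ∈ Cfsg.spGL m F) (hyw : w * y ≠ y * w) : Cfsg.spGL m F ≤ K := by
  obtain ⟨L, hL⟩ : ∃ L : Subgroup (Matrix.symplecticGroup (Fin m) F), L = K.comap (spToGL m F) := ⟨_, rfl⟩
  have hin : ∀ A, spToGL m F A ∈ Cfsg.spGL m F := fun A => spToGL_range (F := F) m ▸ ⟨A, rfl⟩
  haveI hLn : L.Normal := ⟨fun a ha g => by
    rw [hL] at ha ⊢
    show spToGL m F (g * a * g⁻¹) ∈ K
    rw [map_mul, map_mul, map_inv]
    exact hK _ (hin g) _ ha⟩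
  haveI := CfsgLib.Classical.isSimpleGroup_psp (F := F) m (by omega) (fun h => by omega)
  rw [← spToGL_range] at hyS hw ⊢
  obtain ⟨y', rfl⟩ := hyS
  obtain ⟨w', rfl⟩ := hw
  obtain ⟨q, hq⟩ : ∃ q, q = QuotientGroup.mk' (Subgroup.center (Matrix.symplecticGroup (Fin m) F)) := ⟨_, rfl⟩
  have hsur : Function.Surjective q := hq ▸ QuotientGroup.mk'_surjective _
  have hne : L.map q ≠ ⊥ := by
    intro hbot
    have : q y' = 1 := by
      rw [← Subgroup.mem_bot, ← hbot]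
      exact Subgroup.mem_map_of_mem _ (by rw [hL]; exact hy)
    rw [hq, QuotientGroup.mk'_apply, QuotientGroup.eq_one_iff, Subgroup.mem_center_iff] at this
    exact hyw (by rw [← map_mul, this, map_mul])
  haveI : (L.map q).Normal := hLn.map q hsur
  have htop : L.map q = ⊤ := ((inferInstance : (L.map q).Normal).eq_bot_or_eq_top).resolve_left hne
  have hLZ : L ⊔ Subgroup.center (Matrix.symplecticGroup (Fin m) F) = ⊤ := by
    have h' : (L.map q).comap q = ⊤ := by rw [htop, Subgroup.comap_top]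
    rwa [Subgroup.comap_map_eq, hq, QuotientGroup.ker_mk'] at h'
  have hL1 : L = ⊤ := by
    refine eq_top_iff.2 ?_
    rw [← CfsgLib.Classical.commutator_symplecticGroup (F := F) m (Or.inl hm), commutator_def,
      Subgroup.commutator_le]
    intro a _ b _
    obtain ⟨a₁, ha₁, a₂, ha₂, rfl⟩ := Subgroup.mem_sup_of_normal_right.1 (hLZ.ge (Subgroup.mem_top a))
    obtain ⟨b₁, hb₁, b₂, hb₂, rfl⟩ := Subgroup.mem_sup_of_normal_right.1 (hLZ.ge (Subgroup.mem_top b))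
    have e := comm_mul_central a₁ b₁ (Subgroup.mem_center_iff.1 ha₂) (Subgroup.mem_center_iff.1 hb₂)
    rw [e, commutatorElement_def]
    exact L.mul_mem (L.mul_mem (L.mul_mem ha₁ hb₁) (L.inv_mem ha₁)) (L.inv_mem hb₁)
  rintro _ ⟨A, rfl⟩
  have hA : A ∈ L := hL1 ▸ Subgroup.mem_top A
  rwa [hL] at hA

/-- The vectors of one half. -/
def pl (κ : Type) (F : Type*) [Field F] (i : Fin 2) : (κ → F) →ₗ[F] (κ ⊕ κ → F) where
  toFun u := if i = 0 then Sum.elim u (0 : κ → F) else Sum.elim (0 : κ → F) u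
  map_add' u v := by split_ifs <;> funext j <;> rcases j with j | j <;> simp
  map_smul' c u := by split_ifs <;> funext j <;> rcases j with j | j <;> simp

theorem pl_zero (u : κ → F) : pl κ F 0 u = Sum.elim u (0 : κ → F) := rfl

theorem pl_one (u : κ → F) : pl κ F 1 u = Sum.elim (0 : κ → F) u := rfl

section step

variable [Fintype F] {m k : ℕ} {R : Subgroup (GL (Fin m ⊕ Fin m) F)}

local notation "Mm" => Matrix (Fin m ⊕ Fin m) (Fin m ⊕ Fin m) F

/-- An element permuting the two eigenspaces sends the involution to itself up to sign. -/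
theorem sgn_of_stab {m' : ℕ} (Φ : (Fin m ⊕ Fin m → F) ≃ₗ[F] ((Fin m' ⊕ Fin m') ⊕ (Fin m' ⊕ Fin m') → F))
    {r : GL (Fin m ⊕ Fin m) F} (h1 : cA Φ (r : Mm) = bd 1 (-1)) {g : GL (Fin m ⊕ Fin m) F}
    (hg : g ∈ decompositionStabilizer fun i => LinearMap.range
      ((Φ.symm : ((Fin m' ⊕ Fin m') ⊕ (Fin m' ⊕ Fin m') → F) →ₗ[F] (Fin m ⊕ Fin m → F)).comp
        (pl (Fin m' ⊕ Fin m') F i))) :
    Sgn (g * r * g⁻¹) r := by
  obtain ⟨σ, hσ⟩ := hg
  obtain ⟨c, hc⟩ : ∃ c : Fin 2 → F, c = fun i => if i = 0 then 1 else -1 := ⟨_, rfl⟩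
  have hr : ∀ i u, (r : Mm) *ᵥ Φ.symm (pl (Fin m' ⊕ Fin m') F i u) =
      c i • Φ.symm (pl (Fin m' ⊕ Fin m') F i u) := by
    intro i u
    apply Φ.injective
    rw [← cA_mulVec, map_smul, LinearEquiv.apply_symm_apply, h1, bd, hc]
    fin_cases i <;>
      simp only [pl, Fin.isValue, Fin.zero_eta, Fin.mk_one, LinearMap.coe_mk, AddHom.coe_mk, if_true,
        Matrix.fromBlocks_mulVec, one_ne_zero, if_false] <;>
      funext j <;> rcases j with j | j <;> simp [neg_mulVec]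
  have hgi : ∀ i u, ∃ u', (g : Mm) *ᵥ Φ.symm (pl (Fin m' ⊕ Fin m') F i u) =
      Φ.symm (pl (Fin m' ⊕ Fin m') F (σ i) u') := by
    intro i u
    have h3 : (g : Mm) *ᵥ Φ.symm (pl (Fin m' ⊕ Fin m') F i u) ∈ LinearMap.range
        ((Φ.symm : ((Fin m' ⊕ Fin m') ⊕ (Fin m' ⊕ Fin m') → F) →ₗ[F] (Fin m ⊕ Fin m → F)).comp
          (pl (Fin m' ⊕ Fin m') F (σ i))) := by
      have := hσ i
      simp only at this
      rw [← this]
      exact ⟨_, ⟨u, rfl⟩, by rw [Matrix.toLin'_apply]; rfl⟩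
    obtain ⟨u', hu'⟩ := h3
    exact ⟨u', hu'.symm⟩
  have hsplit : ∀ w, ∃ a b, w = Φ.symm (pl (Fin m' ⊕ Fin m') F 0 a) + Φ.symm (pl (Fin m' ⊕ Fin m') F 1 b) :=
    fun w => ⟨(Φ w) ∘ Sum.inl, (Φ w) ∘ Sum.inr, by
      rw [← map_add]
      refine (Φ.symm_apply_eq.2 ?_).symm
      funext j; rcases j with j | j <;> simp [pl]⟩
  obtain ⟨s, hs, hcs⟩ : ∃ s : F, (s = 1 ∨ s = -1) ∧ ∀ i, c (σ i) = s * c i := by
    have hσ01 : σ 0 = 0 ∧ σ 1 = 1 ∨ σ 0 = 1 ∧ σ 1 = 0 := by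
      have hne : σ 0 ≠ σ 1 := σ.injective.ne (by decide)
      revert hne
      generalize σ 0 = a; generalize σ 1 = b
      revert a b; decide
    rcases hσ01 with ⟨e0, e1⟩ | ⟨e0, e1⟩
    · refine ⟨1, Or.inl rfl, fun i => ?_⟩; fin_cases i <;> simp [hc, e0, e1]
    · refine ⟨-1, Or.inr rfl, fun i => ?_⟩; fin_cases i <;> simp [hc, e0, e1]
  have key : ((g * r : GL (Fin m ⊕ Fin m) F) : Mm) = s • ((r * g : GL (Fin m ⊕ Fin m) F) : Mm) := by
    refine Matrix.toLin'.injective (LinearMap.ext fun w => ?_)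
    simp only [Matrix.toLin'_apply, Units.val_mul, Matrix.smul_mulVec, ← Matrix.mulVec_mulVec]
    obtain ⟨a, b, rfl⟩ := hsplit w
    obtain ⟨a', ha⟩ := hgi 0 a
    obtain ⟨b', hb⟩ := hgi 1 b
    simp only [Matrix.mulVec_add, hr, Matrix.mulVec_smul, ha, hb, smul_add, smul_smul, hcs]
    rcases hs with rfl | rfl <;> simp
  rcases hs with rfl | rfl
  · refine Or.inl ?_
    rw [show g * r = r * g from Units.ext (by rw [key, one_smul]), mul_inv_cancel_right]
  · refine Or.inr ?_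
    rw [show g * r = -(r * g) from Units.ext (by rw [key, neg_one_smul, Units.val_neg]), neg_mul,
      mul_inv_cancel_right]

/-- The overgroup acts purely on the eigenspaces. -/
theorem pure_of_half (hR : RFrame R) (hle : R ≤ Cfsg.spGL m F) (hm : 2 * m = 2 ^ k) (hk : 4 ≤ k)
    (hnb : NoBig k R)
    (IH : ∀ (m' : ℕ) (R' : Subgroup (GL (Fin m' ⊕ Fin m') F)), 2 * m' = 2 ^ (k - 1) → RFrame R' →
      R' ≤ Cfsg.spGL m' F → NoBig (k - 1) R' →
      IsMaximalIn (Cfsg.spGL m' F) (subgroupNormalizer R' ⊓ Cfsg.spGL m' F))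
    (hex : ¬ Fintype.card F = 2) {M : Subgroup (GL (Fin m ⊕ Fin m) F)}
    (hNM : subgroupNormalizer R ⊓ Cfsg.spGL m F ≤ M) (hMG : M ≤ Cfsg.spGL m F) (hne : M ≠ Cfsg.spGL m F)
    {r g q : GL (Fin m ⊕ Fin m) F} (hr : Sing R r) (hg : g ∈ M) (hgr : Commute g r) (hq : q ∈ R)
    (hqr : Commute q r) :
    ∃ p ∈ R, ((g * q * g⁻¹ : GL (Fin m ⊕ Fin m) F) : Mm) * (1 + (r : Mm)) = (p : Mm) * (1 + (r : Mm)) := by
  classical
  have h2 := hR.two
  obtain ⟨X, hX, hrX⟩ := hR.exists_pair hr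
  obtain ⟨m', Φ, hm', hmm', h1, h2', hB, hG, hform⟩ :=
    exists_coordinates hR hle hm (by omega) hr hX hrX
  have h8 : 8 ≤ 2 * m' := by
    rw [hm']; exact (show (8 : ℕ) = 2 ^ 3 by norm_num) ▸ Nat.pow_le_pow_right (by norm_num) (by omega)
  haveI := hB.half_frame.nonempty
  obtain ⟨R₀, hR₀⟩ : ∃ R₀, R₀ = R.map (coordGL Φ).toMonoidHom := ⟨_, rfl⟩
  obtain ⟨M₀, hM₀⟩ : ∃ M₀, M₀ = M.map (coordGL Φ).toMonoidHom := ⟨_, rfl⟩
  rw [← hR₀] at hB
  have hM₀G : M₀ ≤ isomM (bd (Matrix.J (Fin m') F) (Matrix.J (Fin m') F)) := by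
    rw [hM₀, ← hG]; exact Subgroup.map_mono hMG
  have hNM₀ : ∀ u, u ∈ subgroupNormalizer R₀ → u ∈ isomM (bd (Matrix.J (Fin m') F) (Matrix.J (Fin m') F)) →
      u ∈ M₀ := by
    intro u hu hu'
    obtain ⟨u, rfl⟩ := (coordGL Φ).surjective u
    rw [hR₀, mem_normalizer_map] at hu
    rw [← hG] at hu'
    obtain ⟨u'', hu'', e⟩ := hu'
    rw [hM₀]
    exact Subgroup.mem_map_of_mem _ (hNM ⟨hu, (coordGL Φ).injective e ▸ hu''⟩)
  have hR₀G : R₀ ≤ isomM (bd (Matrix.J (Fin m') F) (Matrix.J (Fin m') F)) := by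
    rw [hR₀, ← hG]; exact Subgroup.map_mono hle
  have hhalf : half R₀ ≤ Cfsg.spGL m' F := fun a ha => by
    rw [spGL_eq]; exact dup_mem_isomM.1 (hR₀G ha)
  have hNB : NoBig (k - 1) (half R₀) := by
    refine noBig_half hB (by omega) fun A hA hc hs => ?_
    rw [hR₀] at hA
    rw [← Subgroup.card_map_of_injective (K := A) (f := (coordGL Φ).symm.toMonoidHom) (coordGL Φ).symm.injective]
    refine hnb _ ?_ ?_ ?_
    · rintro _ ⟨a, ha, rfl⟩
      obtain ⟨u, hu, rfl⟩ := hA ha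
      simpa using hu
    · rintro _ ⟨a, ha, rfl⟩ _ ⟨b, hb, rfl⟩
      rw [← map_mul, hc a ha b hb, map_mul]
    · rintro _ ⟨a, ha, rfl⟩
      rw [← map_mul, hs a ha, map_one]
  obtain ⟨z, hz, hzm⟩ := hB.memZ
  obtain ⟨x, hx, hxm⟩ := hB.memX
  obtain ⟨hzz, -, -⟩ := pairGL_one_eq h2 hzm (1 : GL (Fin m' ⊕ Fin m') F)
  obtain ⟨P, hP⟩ : ∃ P : Subgroup (GL (Fin m' ⊕ Fin m') F), P = (M₀.comap pairGL).map (MonoidHom.fst _ _) :=
    ⟨_, rfl⟩
  have hPm : ∀ a, a ∈ P ↔ ∃ b, pairGL (a, b) ∈ M₀ := fun a => by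
    rw [hP]
    exact ⟨fun ⟨⟨a', b⟩, hab, e⟩ => ⟨b, by cases e; exact hab⟩, fun ⟨b, hb⟩ => ⟨(a, b), hb, rfl⟩⟩
  have hPG : P ≤ Cfsg.spGL m' F := fun a ha => by
    obtain ⟨b, hb⟩ := (hPm a).1 ha
    rw [spGL_eq]; exact (pairGL_mem_isomM.1 (hM₀G hb)).1
  have hdup : ∀ a ∈ subgroupNormalizer (half R₀), a ∈ Cfsg.spGL m' F → dup a ∈ M₀ := fun a ha ha' =>
    hNM₀ _ (hB.dup_mem_normalizer ha) (dup_mem_isomM.2 (spGL_eq (F := F) m' ▸ ha'))
  have hNP : subgroupNormalizer (half R₀) ⊓ Cfsg.spGL m' F ≤ P := fun a ha =>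
    (hPm a).2 ⟨a, hdup a ha.1 ha.2⟩
  have hswap : ∀ a b, pairGL (a, b) ∈ M₀ → pairGL (b, a) ∈ M₀ := fun a b h => by
    have hxM : x ∈ M₀ := hNM₀ x (hB.frame.le_normalizer hx) (hR₀G hx)
    have e : x * pairGL (a, b) * x = pairGL (b, a) := Units.ext (by
      rw [Units.val_mul, Units.val_mul, hxm, coe_pairGL, coe_pairGL, od_mul_bd, od_mul]; simp)
    exact e ▸ M₀.mul_mem (M₀.mul_mem hxM h) hxM
  have hcomm : ∀ u : GL (Fin m ⊕ Fin m) F, Commute u r →
      (coordGL Φ u : Matrix ((Fin m' ⊕ Fin m') ⊕ (Fin m' ⊕ Fin m')) ((Fin m' ⊕ Fin m') ⊕ (Fin m' ⊕ Fin m')) F) *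
        bd 1 (-1) = bd 1 (-1) * (coordGL Φ u : Matrix _ _ F) := fun u hu => by
    rw [coe_coordGL, ← h1, ← map_mul, ← map_mul, ← Units.val_mul, hu.eq, Units.val_mul]
  rcases (IH m' (half R₀) hm' hB.half_frame hhalf hNB).2 P hNP hPG with hPN | hPall
  · -- normalising blocks
    obtain ⟨a, b, hab⟩ := exists_pairGL_of_comm h2 (hcomm g hgr)
    have haP : a ∈ P := (hPm a).2 ⟨b, hab ▸ hM₀ ▸ Subgroup.mem_map_of_mem _ hg⟩
    rw [hPN] at haP
    obtain ⟨w, hw, e⟩ := hB.decomp (show coordGL Φ q ∈ R₀ from hR₀ ▸ Subgroup.mem_map_of_mem _ hq)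
    have hq' : ∃ t, (coordGL Φ q : Matrix _ _ F) = bd (w : Matrix (Fin m' ⊕ Fin m') (Fin m' ⊕ Fin m') F) t := by
      have c := hcomm q hqr
      have hod : ∀ X Y : Matrix (Fin m' ⊕ Fin m') (Fin m' ⊕ Fin m') F,
          od X Y * bd 1 (-1) = bd 1 (-1) * od X Y → X = 0 := fun X Y hc => by
        rw [od_mul_bd, bd_mul_od] at hc
        have hX := (od_inj hc).1
        rw [Matrix.one_mul, Matrix.mul_neg, Matrix.mul_one] at hX
        have : (2 : F) • X = 0 := by rw [two_smul]; nth_rewrite 1 [← hX]; exact neg_add_cancel _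
        exact (smul_eq_zero.1 this).resolve_left h2
      rcases e with e | e | e | e
      · exact ⟨_, e⟩
      · exact ⟨_, e⟩
      · rw [e] at c; exact absurd (hod _ _ c) w.ne_zero
      · rw [e] at c; exact absurd (hod _ _ c) w.ne_zero
    obtain ⟨t, ht⟩ := hq'
    obtain ⟨p, hp, hpe⟩ : ∃ p ∈ R, coordGL Φ p = dup (a * w * a⁻¹) := by
      have h0 : dup (a * w * a⁻¹) ∈ R₀ := conj_mem haP.1 hw
      rw [hR₀] at h0
      obtain ⟨p, hp, e⟩ := h0
      exact ⟨p, hp, e⟩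
    refine ⟨p, hp, (cA Φ).injective ?_⟩
    have eg : (coordGL Φ (g * q * g⁻¹) :
        Matrix ((Fin m' ⊕ Fin m') ⊕ (Fin m' ⊕ Fin m')) ((Fin m' ⊕ Fin m') ⊕ (Fin m' ⊕ Fin m')) F) =
        bd ((a * w * a⁻¹ : GL (Fin m' ⊕ Fin m') F) : Matrix (Fin m' ⊕ Fin m') (Fin m' ⊕ Fin m') F)
          ((b : Matrix (Fin m' ⊕ Fin m') (Fin m' ⊕ Fin m') F) * t *
            ((b⁻¹ : GL (Fin m' ⊕ Fin m') F) : Matrix (Fin m' ⊕ Fin m') (Fin m' ⊕ Fin m') F)) := by
      rw [map_mul, map_mul, map_inv, hab, ← map_inv, Units.val_mul, Units.val_mul, ht, coe_pairGL, Prod.inv_mk,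
        coe_pairGL, bd_mul, bd_mul, Units.val_mul, Units.val_mul]
    have h12 : (1 : Matrix ((Fin m' ⊕ Fin m') ⊕ (Fin m' ⊕ Fin m')) ((Fin m' ⊕ Fin m') ⊕ (Fin m' ⊕ Fin m')) F) +
        bd 1 (-1) = bd (1 + 1) 0 := by
      rw [← bd_one, bd, bd, bd, Matrix.fromBlocks_add, add_neg_cancel, add_zero]
    rw [map_mul, map_mul, ← coe_coordGL, ← coe_coordGL, map_add, map_one, h1, hpe, coe_dup, eg, h12, bd_mul, bd_mul,
      Matrix.mul_zero, Matrix.mul_zero]
  · -- the whole decomposition stabiliser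
    exfalso
    obtain ⟨K, hK⟩ : ∃ K : Subgroup (GL (Fin m' ⊕ Fin m') F),
        K = M₀.comap ((pairGL (κ := Fin m' ⊕ Fin m') (F := F)).comp (MonoidHom.inl _ _)) := ⟨_, rfl⟩
    have hKm : ∀ {a}, a ∈ K ↔ pairGL (a, 1) ∈ M₀ := fun {a} => by rw [hK]; exact Iff.rfl
    have hfull : Cfsg.spGL m' F ≤ K := by
      obtain ⟨y, hy⟩ := hB.half_frame.exists_sing (by rw [Fintype.card_sum, Fintype.card_fin]; omega)
      obtain ⟨w, hw, hyw⟩ := hB.half_frame.exists_pair hy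
      refine spGL_le_of_normal (by omega) ?_ (y := y) (w := w) ?_ (hhalf hy.mem) (hhalf hw.mem)
        (fun e => hB.half_frame.not_anti e hyw.symm)
      · intro a' ha' a ha
        obtain ⟨b', hb'⟩ := (hPm a').1 (hPall ▸ ha')
        have := M₀.mul_mem (M₀.mul_mem hb' (hKm.1 ha)) (M₀.inv_mem hb')
        rw [← map_inv, ← map_mul, ← map_mul, Prod.inv_mk, Prod.mk_mul_mk, Prod.mk_mul_mk, mul_one,
          mul_inv_cancel] at this
        exact hKm.2 this
      · obtain ⟨-, hzc, e⟩ := pairGL_one_eq h2 hzm y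
        refine hKm.2 (hswap _ _ ?_)
        rw [e]
        exact hNM₀ _ (hB.frame.ctrl_mem_normalizer hz hy.mem hzz hzc)
          (ctrl_mem_isomM h2 (hR₀G hz) hzz (hR₀G hy.mem) hzc)
    have hpairs : ∀ a b, a ∈ Cfsg.spGL m' F → b ∈ Cfsg.spGL m' F → pairGL (a, b) ∈ M₀ := fun a b ha hb => by
      have := M₀.mul_mem (hKm.1 (hfull ha)) (hswap _ _ (hKm.1 (hfull hb)))
      rwa [← map_mul, Prod.mk_mul_mk, mul_one, one_mul] at this
    obtain ⟨D, hD⟩ : ∃ D : Fin 2 → Submodule F (Fin m ⊕ Fin m → F), D = fun i => LinearMap.range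
        ((Φ.symm : ((Fin m' ⊕ Fin m') ⊕ (Fin m' ⊕ Fin m') → F) →ₗ[F] (Fin m ⊕ Fin m → F)).comp
          (pl (Fin m' ⊕ Fin m') F i)) := ⟨_, rfl⟩
    have hjs : ∀ u v, Cfsg.sympForm m F u v =
        form (bd (Matrix.J (Fin m') F) (Matrix.J (Fin m') F)) (Φ u) (Φ v) := fun u v => (hform u v).symm
    have hsep : ∀ u : Fin m' ⊕ Fin m' → F, u ≠ 0 → ∃ v, form (Matrix.J (Fin m') F) u v ≠ 0 := fun u hu => by
      by_contra hno; push Not at hno
      exact hu (CfsgLib.Geom.sympBilin_sep u fun v => (CfsgLib.Geom.sympBilin_apply u v).trans (hno v))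
    have hswapF : ∀ u v : Fin m' ⊕ Fin m' → F,
        form (Matrix.J (Fin m') F) v u = -form (Matrix.J (Fin m') F) u v := fun u v => by
      show Cfsg.sympForm m' F v u = -Cfsg.sympForm m' F u v
      rw [← CfsgLib.Geom.sympBilin_apply, ← CfsgLib.Geom.sympBilin_apply, CfsgLib.Geom.sympBilin_swap]
    have hplinj : ∀ i, Function.Injective (pl (Fin m' ⊕ Fin m') F i) := fun i u v e => by
      funext j
      fin_cases i
      · simpa [pl] using congrFun e (Sum.inl j)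
      · simpa [pl] using congrFun e (Sum.inr j)
    have hdec : IsNondegenerateMDecomposition (Cfsg.sympForm m F) m D := by
      subst hD
      refine ⟨⟨le_rfl, by omega, fun i => ?_, ?_, ?_⟩, fun i w hw hw0 => ?_, fun i j hij u hu v hv => ?_⟩
      · rw [LinearMap.finrank_range_of_inj (fun a b e => hplinj i (Φ.symm.injective e)),
          Module.finrank_fintype_fun_eq_card, Fintype.card_sum, Fintype.card_fin]
        omega
      · rw [iSupIndep_pair (i := (0 : Fin 2)) (j := 1) (by decide) (fun k => by fin_cases k <;> simp),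
          Submodule.disjoint_def]
        rintro w ⟨u, rfl⟩ ⟨v, hv⟩
        have e := congrArg Φ hv
        simp only [LinearMap.comp_apply, LinearEquiv.coe_coe, LinearEquiv.apply_symm_apply] at e
        have hu : u = 0 := funext fun j => by simpa [pl] using (congrFun e (Sum.inl j)).symm
        rw [hu, map_zero]
      · refine eq_top_iff.2 fun w _ => ?_
        have hw : w = Φ.symm (pl _ F 0 ((Φ w) ∘ Sum.inl)) + Φ.symm (pl _ F 1 ((Φ w) ∘ Sum.inr)) := by
          rw [← map_add]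
          refine (Φ.symm_apply_eq.2 ?_).symm
          funext j; rcases j with j | j <;> simp [pl]
        rw [hw]
        exact add_mem (Submodule.mem_iSup_of_mem 0 ⟨_, rfl⟩) (Submodule.mem_iSup_of_mem 1 ⟨_, rfl⟩)
      · obtain ⟨u, rfl⟩ := hw
        obtain ⟨v, hv⟩ := hsep u fun e => hw0 (by rw [e, map_zero])
        have hv' : form (Matrix.J (Fin m') F) v u ≠ 0 := by rw [hswapF u v]; exact neg_ne_zero.2 hv
        refine ⟨⟨_, ⟨v, rfl⟩, ?_⟩, ⟨_, ⟨v, rfl⟩, ?_⟩⟩ <;>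
          simp only [hjs, LinearMap.comp_apply, LinearEquiv.coe_coe, LinearEquiv.apply_symm_apply,
            form_fromBlocks] <;>
          fin_cases i <;> simp [pl, form, hv, hv'] <;> first | exact hv' | exact hv
      · obtain ⟨u, rfl⟩ := hu
        obtain ⟨v, rfl⟩ := hv
        show Cfsg.sympForm m F _ _ = 0
        simp only [hjs, LinearMap.comp_apply, LinearEquiv.coe_coe, LinearEquiv.apply_symm_apply, form_fromBlocks]
        fin_cases i <;> fin_cases j <;> simp at hij <;> simp [pl, form]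
    obtain ⟨hX', hXG⟩ : X ∈ M ∧ X ∈ Cfsg.spGL m F :=
      ⟨hNM ⟨hR.le_normalizer hX.mem, hle hX.mem⟩, hle hX.mem⟩
    have hpairM : ∀ u ∈ Cfsg.spGL m F, Commute u r → u ∈ M := fun u hu hc => by
      obtain ⟨a, b, hab⟩ := exists_pairGL_of_comm h2 (hcomm u hc)
      have h0 : pairGL (a, b) ∈ isomM (bd (Matrix.J (Fin m') F) (Matrix.J (Fin m') F)) := by
        rw [← hab, ← hG]; exact Subgroup.mem_map_of_mem _ hu
      obtain ⟨ha, hb⟩ := pairGL_mem_isomM.1 h0
      have hin := hpairs a b (by rw [spGL_eq]; exact ha) (by rw [spGL_eq]; exact hb)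
      rw [← hab, hM₀] at hin
      obtain ⟨u', hu', e⟩ := hin
      exact (coordGL Φ).injective e ▸ hu'
    have hstab : decompositionStabilizer D ⊓ Cfsg.spGL m F ≤ M := by
      intro u hu
      have hs := sgn_of_stab Φ h1 (hD ▸ hu.1)
      rcases hs with e | e
      · exact hpairM u hu.2 (commute_of_conj_eq e)
      · exact (M.mul_mem_cancel_right hX').1 (hpairM (u * X) (mul_mem hu.2 hXG)
          ((anti_of_conj_eq e).mul_anti_left hrX.symm))
    rcases (CfsgLib.MaxSub.SpAll.decomposition_maximal m m D hdec (fun h => hex h.2)).2 M hstab hMG with he | he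
    · obtain ⟨d, R', ψ, hd, hR', hψ, hψn, hmem, -⟩ := hR.exists_sub hr.mem hX.mem hr.sq hX.sq hrX
      obtain ⟨A', hA'⟩ := hR'.exists_sing (by
        rw [Fintype.card_fin]; rw [Fintype.card_sum, Fintype.card_fin] at hd; omega)
      obtain ⟨hA, hAr, hAX⟩ := hmem A' hA'.mem
      have hAA : ψ A' * ψ A' = 1 := by rw [← map_mul, hA'.sq, map_one]
      have hn : ctrl (ψ A') X ∈ M :=
        hNM ⟨hR.ctrl_mem_normalizer hA hX.mem hAA hAX, by
          rw [spGL_eq] at hle ⊢; exact ctrl_mem_isomM h2 (hle hA) hAA (hle hX.mem) hAX⟩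
      rw [he] at hn
      have hs := sgn_of_stab Φ h1 (hD ▸ hn.1)
      rw [ctrl_conj_B h2 hAA hAX hAr.symm hrX] at hs
      exact hR.not_sgn_mul (fun e => hA'.ne_one (hψ (by rw [e, map_one])))
        (fun e => hA'.ne_neg (hψ (by rw [e, hψn, map_one]))) hs
    · exact hne he

/-- The inductive step. -/
theorem maximal_step (hR : RFrame R) (hle : R ≤ Cfsg.spGL m F) (hm : 2 * m = 2 ^ k) (hk : 4 ≤ k)
    (hnb : NoBig k R)
    (IH : ∀ (m' : ℕ) (R' : Subgroup (GL (Fin m' ⊕ Fin m') F)), 2 * m' = 2 ^ (k - 1) → RFrame R' →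
      R' ≤ Cfsg.spGL m' F → NoBig (k - 1) R' →
      IsMaximalIn (Cfsg.spGL m' F) (subgroupNormalizer R' ⊓ Cfsg.spGL m' F))
    (hex : ¬ Fintype.card F = 2) :
    IsMaximalIn (Cfsg.spGL m F) (subgroupNormalizer R ⊓ Cfsg.spGL m F) := by
  classical
  have h2 := hR.two
  refine ⟨lt_of_le_of_ne inf_le_right fun he => ?_, fun M hNM hMG => ?_⟩
  · obtain ⟨r, hr⟩ := hR.exists_sing (by
      rw [Fintype.card_sum, Fintype.card_fin]
      have := Nat.pow_le_pow_right (show 0 < 2 by norm_num) hk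
      omega)
    obtain ⟨X, hX, hrX⟩ := hR.exists_pair hr
    obtain ⟨m', Φ, hm', hmm', -, -, hB, hG, -⟩ := exists_coordinates hR hle hm (by omega) hr hX hrX
    have h8 : 8 ≤ 2 * m' := by
      rw [hm']; exact (show (8 : ℕ) = 2 ^ 3 by norm_num) ▸ Nat.pow_le_pow_right (by norm_num) (by omega)
    haveI := hB.half_frame.nonempty
    obtain ⟨x, hx, hxm⟩ := hB.memX
    obtain ⟨a, ha, hsq⟩ : ∃ a ∈ Cfsg.spGL m' F, ¬ (a * a = 1 ∨ a * a = -1) := by
      obtain ⟨i⟩ : Nonempty (Fin m') := ⟨⟨0, by omega⟩⟩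
      obtain ⟨v, hv⟩ : ∃ v : Fin m' ⊕ Fin m' → F, v = Pi.single (Sum.inl i) 1 := ⟨_, rfl⟩
      obtain ⟨u, hu⟩ : ∃ u : Fin m' ⊕ Fin m' → F, u = Pi.single (Sum.inr i) 1 := ⟨_, rfl⟩
      have hf : CfsgLib.Geom.sympBilin m' F u v = 1 := by
        rw [CfsgLib.Geom.sympBilin_apply, CfsgLib.Geom.sympForm_eq_sum, hu, hv]
        simp [Pi.single_apply]
      obtain ⟨A, hA⟩ : ∃ A : Matrix.symplecticGroup (Fin m') F, (A : Matrix _ _ F) = Cfsg.sympTransvection m' v 1 :=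
        ⟨⟨_, CfsgLib.Geom.sympTransvection_mem v 1⟩, rfl⟩
      have e1 : (spToGL m' F A : Matrix (Fin m' ⊕ Fin m') (Fin m' ⊕ Fin m') F) *ᵥ
          ((spToGL m' F A : Matrix (Fin m' ⊕ Fin m') (Fin m' ⊕ Fin m') F) *ᵥ v) = v := by
        show (A : Matrix (Fin m' ⊕ Fin m') (Fin m' ⊕ Fin m') F) *ᵥ ((A : Matrix (Fin m' ⊕ Fin m') (Fin m' ⊕ Fin m') F) *ᵥ v) = v
        simp [hA, CfsgLib.Geom.sympTransvection_mulVec, CfsgLib.Geom.sympBilin_self]
      have e2 : (spToGL m' F A : Matrix (Fin m' ⊕ Fin m') (Fin m' ⊕ Fin m') F) *ᵥ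
          ((spToGL m' F A : Matrix (Fin m' ⊕ Fin m') (Fin m' ⊕ Fin m') F) *ᵥ u) = u + (2 : F) • v := by
        show (A : Matrix (Fin m' ⊕ Fin m') (Fin m' ⊕ Fin m') F) *ᵥ ((A : Matrix (Fin m' ⊕ Fin m') (Fin m' ⊕ Fin m') F) *ᵥ u) = _
        simp [hA, CfsgLib.Geom.sympTransvection_mulVec, CfsgLib.Geom.sympBilin_self, hf, two_smul, add_assoc]
      have hv0 : v ≠ 0 := fun e => by simpa [hv] using congrFun e (Sum.inl i)
      refine ⟨spToGL m' F A, spToGL_range (F := F) m' ▸ ⟨A, rfl⟩, ?_⟩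
      rintro (h | h)
      · have h' := congrArg (fun g : GL (Fin m' ⊕ Fin m') F => (g : Matrix (Fin m' ⊕ Fin m') (Fin m' ⊕ Fin m') F) *ᵥ u) h
        simp only [Units.val_mul, Units.val_one, ← Matrix.mulVec_mulVec, e2, Matrix.one_mulVec, add_eq_left,
          smul_eq_zero] at h'
        exact h'.elim h2 hv0
      · have h' := congrArg (fun g : GL (Fin m' ⊕ Fin m') F => (g : Matrix (Fin m' ⊕ Fin m') (Fin m' ⊕ Fin m') F) *ᵥ v) h
        simp only [Units.val_mul, Units.val_neg, Units.val_one, ← Matrix.mulVec_mulVec, e1, Matrix.neg_mulVec,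
          Matrix.one_mulVec] at h'
        have h2v : (2 : F) • v = 0 := by rw [two_smul]; nth_rewrite 1 [h']; exact neg_add_cancel v
        exact hv0 ((smul_eq_zero.1 h2v).resolve_left h2)
    have hg0 : pairGL (a, 1) ∈ subgroupNormalizer (R.map (coordGL Φ).toMonoidHom) := by
      obtain ⟨g, hg⟩ := (coordGL Φ).surjective (pairGL (a, 1))
      have hgG : g ∈ Cfsg.spGL m F := by
        have h0 : coordGL Φ g ∈ (Cfsg.spGL m F).map (coordGL Φ).toMonoidHom := by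
          rw [hG, hg, pairGL_mem_isomM]
          exact ⟨spGL_eq (F := F) m' ▸ ha, Subgroup.one_mem _⟩
        obtain ⟨g', hg', e⟩ := h0
        exact (coordGL Φ).injective e ▸ hg'
      rw [← hg, mem_normalizer_map]
      exact (he.ge hgG).1
    have hin := (R.map (coordGL Φ).toMonoidHom).mul_mem (conj_mem hg0 hx) hx
    obtain ⟨w, hw, e⟩ := hB.decomp hin
    have hval : ((pairGL (a, 1) * x * (pairGL (a, 1))⁻¹ * x : GL ((Fin m' ⊕ Fin m') ⊕ (Fin m' ⊕ Fin m')) F) :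
        Matrix _ _ F) = bd (a : Matrix (Fin m' ⊕ Fin m') (Fin m' ⊕ Fin m') F)
          ((a⁻¹ : GL (Fin m' ⊕ Fin m') F) : Matrix (Fin m' ⊕ Fin m') (Fin m' ⊕ Fin m') F) := by
      rw [← map_inv]
      simp only [Units.val_mul, coe_pairGL, Prod.inv_mk, hxm, bd_mul_od, od_mul_bd, od_mul, inv_one, Units.val_one,
        Matrix.mul_one, Matrix.one_mul]
    rw [hval] at e
    have hne : (a : Matrix (Fin m' ⊕ Fin m') (Fin m' ⊕ Fin m') F) ≠ 0 := a.ne_zero
    have haw : a = w := by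
      refine Units.ext ?_
      rcases e with e | e | e | e
      · exact (bd_inj e).1
      · exact (bd_inj e).1
      · rw [bd, od] at e; exact absurd ((Matrix.fromBlocks_inj).1 e).1 hne
      · rw [bd, od] at e; exact absurd ((Matrix.fromBlocks_inj).1 e).1 hne
    exact hsq (haw ▸ hB.half_frame.sq w hw)
  · by_cases hne : M = Cfsg.spGL m F
    · exact Or.inr hne
    refine Or.inl (le_antisymm (le_inf ?_ hMG) hNM)
    have hle' : R ≤ isomM (Matrix.J (Fin m) F) := spGL_eq (F := F) m ▸ hle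
    have hMG' : M ≤ isomM (Matrix.J (Fin m) F) := spGL_eq (F := F) m ▸ hMG
    refine Over.le_normalizer (R := R) ⟨hR, ⟨k, hk, by rw [Fintype.card_sum, Fintype.card_fin]; omega⟩,
      fun r hr => hNM ⟨hR.le_normalizer hr, hle hr⟩, ?_, ?_, ?_, ?_⟩
    · intro x q hx hq hc
      refine hNM ⟨hR.ctrl_mem_normalizer hx.mem hq hx.sq hc, ?_⟩
      rw [spGL_eq]; exact ctrl_mem_isomM h2 (hle' hx.mem) hx.sq (hle' hq) hc
    · intro x X g h hx hX hxX hg hgx hh he
      refine hNM ⟨hh, ?_⟩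
      rw [spGL_eq]
      exact dup_mem_isomM' h2 (hle' hx.mem) hx.sq (hle' hX.mem) hX.sq hxX (hMG' hg) hgx he
    · intro x q h hx hq hc hh l he
      exact scal_of_isomM h2 (hle' hx.mem) hx.sq hx.ne_one (hle' hq) hc (hMG' hh) (J_props m h2).2.1 he
    · intro x g q hx hg hgx hq hqx
      exact pure_of_half hR hle hm hk hnb IH hex hNM hMG hne hx hg hgx hq hqx

end step

end CfsgLib.MaxSub.SpExtra
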